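import Cfsg.Agent.H389.R.Ctx
import Cfsg.Agent.Walter.AbStruct

/-!
# S3530, part "core of the minimal group" (helper35)
-/

set_option autoImplicit false
set_option linter.unusedSectionVars false
set_option linter.unusedVariables false

namespace Cfsg.Agent.H389.RSq

open Subgroup
open scoped commutatorElement
open Cfsg.Agent.H389.JSq (Has)
open Cfsg.Agent.OddOrderLocal.HallPi
open Cfsg.Agent.Walter
open Cfsg.Agent.SignalizersComponents

universe u v

section Core

variable {m : ℕ} {X : Type u} [Group X] [Finite X]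

/-- an element of odd order is conjugate into a complement of a normal `2`-subgroup -/
theorem exists_conj_mem_compl {W : Type v} [Group W] [Finite W] {R M : Subgroup W} [R.Normal]
    (hR : IsPGroup 2 R) (hodd : ¬ 2 ∣ R.index) (hc : IsComplement' R M) {w : W}
    (hw : ¬ 2 ∣ orderOf w) : ∃ y : W, y * w * y⁻¹ ∈ M := by
  have : Fact (Nat.Prime 2) := ⟨Nat.prime_two⟩
  set C : Subgroup W := zpowers w with hC
  set D : Subgroup W := R ⊔ C with hD
  have hRD : R ≤ D := le_sup_left
  have hCD : C ≤ D := le_sup_right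
  have hsolv : Group.IsSolvable D := by
    have h1 : Group.IsSolvable R := by
      have := hR.isNilpotent
      infer_instance
    have h2 : D.map (QuotientGroup.mk' R) = C.map (QuotientGroup.mk' R) := by
      rw [hD, Subgroup.map_sup, (Subgroup.map_eq_bot_iff _).mpr (le_of_eq (QuotientGroup.ker_mk' R).symm),
        bot_sup_eq]
    have h3 : Group.IsSolvable (D.map (QuotientGroup.mk' R) : Subgroup (W ⧸ R)) := by
      rw [h2, hC, MonoidHom.map_zpowers]
      infer_instance
    refine Group.isSolvable_of_ker_le_range (Subgroup.inclusion hRD)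
      ((QuotientGroup.mk' R).subgroupMap D) ?_
    intro x hx
    have h4 : (QuotientGroup.mk' R) (x : W) = 1 := congrArg Subtype.val hx
    have h5 : (x : W) ∈ R := (QuotientGroup.eq_one_iff _).mp h4
    exact ⟨⟨x, h5⟩, Subtype.ext rfl⟩
  have hHall : Cfsg.IsPiHallOf {2} R D := by
    refine ⟨hRD, ?_, ?_⟩
    · intro p hp hd
      obtain ⟨k, hk⟩ := IsPGroup.iff_card.mp hR
      rw [hk] at hd
      exact (Nat.prime_dvd_prime_iff_eq hp Nat.prime_two).mp (hp.dvd_of_dvd_pow hd)
    · intro p hp hp2 hd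
      rw [Set.mem_singleton_iff] at hp2
      subst hp2
      exact hodd (hd.trans (relIndex_dvd_index_of_normal R D))
  have hcompl : Cfsg.IsComplIn (M ⊓ D) R D := by
    refine ⟨inf_le_right, hRD, ?_, ?_⟩
    · rw [eq_bot_iff]
      rintro x ⟨⟨hx1, -⟩, hx2⟩
      have := hc.disjoint
      exact (disjoint_iff.mp this) ▸ (mem_inf.mpr ⟨hx2, hx1⟩)
    · intro d hd
      have h1 : d⁻¹ ∈ (⊤ : Subgroup W) := mem_top _
      rw [← hc.sup_eq_top] at h1
      obtain ⟨r, hr, a, ha, hra⟩ := mem_sup_of_normal_left.mp h1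
      have h2 : d = a⁻¹ * r⁻¹ := by rw [← mul_inv_rev, hra, inv_inv]
      refine ⟨a⁻¹, ⟨M.inv_mem ha, ?_⟩, r⁻¹, R.inv_mem hr, h2⟩
      have h3 : a⁻¹ = d * r := by rw [h2]; group
      rw [h3]
      exact D.mul_mem hd (hRD hr)
  obtain ⟨y, hy, hyc⟩ := exists_conj_le_of_isComplIn hsolv hHall hcompl hCD (by
    intro p hp hd hp2
    rw [Set.mem_singleton_iff] at hp2
    subst hp2
    rw [hC, Nat.card_zpowers] at hd
    exact hw hd)
  refine ⟨y, (mem_inf.mp (hyc ⟨w, mem_zpowers w, rfl⟩)).1⟩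

theorem Min.eq_bot {σ : Fin 5 → ℕ} (h : Min m σ X) {W : Type v} [Group W] [Finite W] (g : X →* W)
    (hg : Function.Surjective g) (R : Subgroup W) [R.Normal] (hR : IsPGroup 2 R) (hodd : ¬ 2 ∣ R.index) :
    R = ⊥ := by
  have : Fact (Nat.Prime 2) := ⟨Nat.prime_two⟩
  have hcop : (Nat.card R).Coprime R.index := by
    obtain ⟨k, hk⟩ := IsPGroup.iff_card.mp hR
    rw [hk]
    exact Nat.Coprime.pow_left k ((Nat.Prime.coprime_iff_not_dvd Nat.prime_two).2 hodd)
  obtain ⟨M, hM⟩ := exists_right_complement'_of_coprime hcop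
  have htop : M.comap g = ⊤ := by
    apply h.min
    intro i j hij
    obtain ⟨x, hx⟩ := h.k5 i j hij
    have h1 : ¬ 2 ∣ orderOf x := by
      rw [hx]
      intro h2
      rcases (Nat.Prime.dvd_mul Nat.prime_two).mp h2 with h3 | h3
      · exact h.sig.ne_two i ((Nat.prime_dvd_prime_iff_eq Nat.prime_two (h.sig.prime i)).mp h3).symm
      · exact h.sig.ne_two j ((Nat.prime_dvd_prime_iff_eq Nat.prime_two (h.sig.prime j)).mp h3).symm
    have h2 : ¬ 2 ∣ orderOf (g x) := fun h3 => h1 (h3.trans (orderOf_map_dvd g x))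
    obtain ⟨y, hy⟩ := exists_conj_mem_compl hR hodd hM h2
    obtain ⟨z, rfl⟩ := hg y
    have h3 : z * x * z⁻¹ ∈ M.comap g := by
      rw [mem_comap, map_mul, map_mul, map_inv]; exact hy
    refine ⟨⟨z * x * z⁻¹, h3⟩, ?_⟩
    rw [← Subgroup.orderOf_coe]
    show orderOf (z * x * z⁻¹) = _
    rw [← hx]
    exact orderOf_injective (MulAut.conj z).toMonoidHom (MulAut.conj z).injective x
  have hMtop : M = ⊤ := by
    rw [eq_top_iff]
    intro y _
    obtain ⟨x, rfl⟩ := hg y
    have : x ∈ M.comap g := htop ▸ mem_top x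
    exact this
  have h4 := hM.disjoint
  rw [hMtop, disjoint_top] at h4
  exact h4

/-- the Sylow `2`-subgroups of a group in the class are abelian -/
theorem Cl.sylow_comm (h : Cl m X) {S : Subgroup X} (hS : IsPGroup 2 S) :
    ∀ a ∈ S, ∀ b ∈ S, a * b = b * a := by
  have hsq : ∀ a ∈ S, a ^ 2 = 1 := by
    intro a ha
    obtain ⟨k, hk⟩ := (IsPGroup.iff_orderOf.mp hS) ⟨a, ha⟩
    rw [← Subgroup.orderOf_coe] at hk
    have hk' : orderOf a = 2 ^ k := hk
    have h1 : k ≤ 1 := by
      by_contra h2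
      push Not at h2
      apply h.four a
      rw [hk']
      exact pow_dvd_pow 2 h2
    apply orderOf_dvd_iff_pow_eq_one.mp
    rw [hk']
    exact pow_dvd_pow 2 h1 |>.trans (by norm_num)
  intro a ha b hb
  have h1 := hsq a ha
  have h2 := hsq b hb
  have h3 := hsq (a * b) (mul_mem ha hb)
  have ha' : a⁻¹ = a := by
    rw [inv_eq_iff_mul_eq_one, ← pow_two]; exact h1
  have hb' : b⁻¹ = b := by
    rw [inv_eq_iff_mul_eq_one, ← pow_two]; exact h2
  have hab' : (a * b)⁻¹ = a * b := by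
    rw [inv_eq_iff_mul_eq_one, ← pow_two]; exact h3
  rw [← hab', mul_inv_rev, ha', hb']

theorem Min.core {σ : Fin 5 → ℕ} (h : Min m σ X) :
    Cfsg.pCore 2 (X ⧸ Cfsg.pPrimeCore 2 X) = ⊥ ∧ Odd (Cfsg.layer (X ⧸ Cfsg.pPrimeCore 2 X)).index ∧
      centralizer ((Cfsg.layer (X ⧸ Cfsg.pPrimeCore 2 X) : Subgroup _) : Set (X ⧸ Cfsg.pPrimeCore 2 X)) = ⊥ := by
  have : Fact (Nat.Prime 2) := ⟨Nat.prime_two⟩
  set Y := X ⧸ Cfsg.pPrimeCore 2 X with hY
  have hO : Cfsg.pPrimeCore 2 Y = ⊥ := Lib.Cores.pPrimeCore_quotient_pPrimeCore 2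
  have hcl : Cl m Y := h.cl.quotient _
  obtain ⟨S⟩ : Nonempty (Sylow 2 Y) := inferInstance
  have hS := hcl.sylow_comm S.2
  have hE : (Cfsg.layer Y).Normal := LayerBasic.layer_normal Y
  have hT : (Cfsg.pCore 2 Y).Normal := Lib.Cores.pCore_normal 2
  have hF := AbStruct.genFitting_eq hO
  have hodd := AbStruct.odd_index hO hS
  -- the image of `O_2(Y)` modulo the layer
  have hle : Cfsg.pCore 2 Y ≤ Cfsg.layer Y := by
    set q := QuotientGroup.mk' (Cfsg.layer Y) with hq
    have hqs : Function.Surjective q := QuotientGroup.mk'_surjective _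
    have hRn : ((Cfsg.pCore 2 Y).map q).Normal := hT.map q hqs
    have hb := h.eq_bot (q.comp (QuotientGroup.mk' (Cfsg.pPrimeCore 2 X)))
      (hqs.comp (QuotientGroup.mk'_surjective _)) ((Cfsg.pCore 2 Y).map q)
      ((Lib.Cores.pCore_isPGroup (G := Y) 2).map q) (by
        intro hd
        have h1 : ((Cfsg.pCore 2 Y).map q).index = (Cfsg.generalizedFittingSubgroup Y).index := by
          rw [hF, index_map, MonoidHom.range_eq_top.mpr hqs, index_top, mul_one, hq, QuotientGroup.ker_mk']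
        rw [h1] at hd
        exact (Nat.not_even_iff_odd.mpr hodd) (even_iff_two_dvd.mpr hd))
    rw [Subgroup.map_eq_bot_iff, hq, QuotientGroup.ker_mk'] at hb
    exact hb
  have hbot : Cfsg.pCore 2 Y = ⊥ := by
    rw [eq_bot_iff]
    intro z hz
    obtain ⟨k, hk⟩ := Lib.Cores.pCore_isPGroup (G := Y) 2 ⟨z, hz⟩
    have hk' : z ^ 2 ^ k = 1 := congrArg Subtype.val hk
    have hzE : z ∈ Cfsg.layer Y := hle hz
    have hzc := AbStruct.pCore_le_centralizer_layer hO hz
    obtain ⟨P, hP⟩ := AbStruct.exists_sylow_of_subnormal S (K := Cfsg.layer Y) hE.isSubnormal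
    have hcomm : IsMulCommutative (P : Subgroup (Cfsg.layer Y)) := by
      refine ⟨⟨fun x y => Subtype.ext ?_⟩⟩
      have hx : (x : Cfsg.layer Y) ∈ (S : Subgroup Y).subgroupOf (Cfsg.layer Y) := hP ▸ x.2
      have hy : (y : Cfsg.layer Y) ∈ (S : Subgroup Y).subgroupOf (Cfsg.layer Y) := hP ▸ y.2
      exact AbStruct.comm_subgroupOf hS (x : Cfsg.layer Y) hx (y : Cfsg.layer Y) hy
    have hperf : commutator (Cfsg.layer Y) = ⊤ := by
      apply map_injective (Cfsg.layer Y).subtype_injective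
      rw [commutator_def, map_commutator, ← MonoidHom.range_eq_map, range_subtype]
      exact LayerBasic.layer_perfect Y
    have h3 := S0089.pow_index_eq_one_of_mem (P : Subgroup (Cfsg.layer Y)) ⟨z, hzE⟩
      (by rw [hperf]; exact mem_top _) (by
        rw [mem_center_iff]
        intro y
        exact Subtype.ext (mem_centralizer_iff.mp hzc y y.2))
    have h3' : z ^ (P : Subgroup (Cfsg.layer Y)).index = 1 := congrArg Subtype.val h3
    have h4 : (2 ^ k).Coprime (P : Subgroup (Cfsg.layer Y)).index :=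
      Nat.Coprime.pow_left k ((Nat.Prime.coprime_iff_not_dvd Nat.prime_two).2 P.not_dvd_index)
    rw [mem_bot, ← orderOf_eq_one_iff]
    exact Nat.eq_one_of_dvd_coprimes h4 (orderOf_dvd_of_pow_eq_one hk')
      (orderOf_dvd_of_pow_eq_one h3')
  refine ⟨hbot, ?_, ?_⟩
  · rw [hF, hbot, bot_sup_eq] at hodd
    exact hodd
  · have h1 := TwoFusion.FStarControl.centralizer_genFitting_le_fitting (H := Y)
    rw [BalanceAux.fitting_eq_pCore 2 hO, hF, hbot, bot_sup_eq] at h1
    exact le_bot_iff.mp h1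

end Core

end Cfsg.Agent.H389.RSq
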