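import Cfsg.Agent.H389.R.Ctx

/-!
# S3530, part "no cyclic J" (helper35)

A minimal perfect cover `P` of `E` without central `ℓ`-extensions has no nontrivial cyclic Sylow `ℓ`-subgroup
of the kernel; `NoMult` for a direct product.
-/

set_option autoImplicit false
set_option linter.unusedSectionVars false
set_option linter.unusedVariables false

namespace Cfsg.Agent.H389.RSq

open Subgroup
open scoped commutatorElement
open Cfsg.Agent.H389.JSq (Has)
open Cfsg.Agent.OddOrderLocal.HallPi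

universe u v

variable {X Y : Type u} [Group X] [Finite X] [Group Y] [Finite Y] {f : X →* Y} {D P : Subgroup X}
  {E : Subgroup Y} {H : Set ℕ → Subgroup X}

/-- the covering group normalises every Hall subgroup type of its kernel (some member) -/
theorem Cov.exists_hall (C : Cov f D E P H) (hs : Group.IsSolvable (D ⊓ f.ker : Subgroup X)) (π : Set ℕ) :
    ∃ Q : Subgroup X, Cfsg.IsPiHallOf π Q (P ⊓ f.ker) ∧ P ≤ normalizer (Q : Set X) := by
  have hZ : Group.IsSolvable (P ⊓ f.ker : Subgroup X) :=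
    Group.isSolvable_of_isSolvable_injective (f := Subgroup.inclusion C.ker_le)
      (Subgroup.inclusion_injective _)
  obtain ⟨Q, hQ⟩ := exists_isPiHallOf hZ π
  refine ⟨Q, hQ, ?_⟩
  have h1 := frattini hZ inf_le_left (Cov.le_normalizer_ker P f) hQ
  have h2 : P ⊓ normalizer (Q : Set X) = P := by
    apply C.min _ inf_le_left
    rw [← C.map]
    apply le_antisymm (map_mono inf_le_left)
    rintro _ ⟨x, hx, rfl⟩
    obtain ⟨n, hn, k, hk, rfl⟩ := h1 x hx
    refine ⟨k, hk, ?_⟩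
    rw [map_mul, (mem_inf.mp hn).2, one_mul]
  exact inf_eq_left.mp h2

theorem Cov.not_isCyclic (C : Cov f D E P H) (hs : Group.IsSolvable (D ⊓ f.ker : Subgroup X)) (hE : ⁅E, E⁆ = E)
    {ℓ : ℕ} (hℓ : ℓ.Prime) (hm : NoMult ℓ E) {J : Subgroup X} (hJ : Cfsg.IsPiHallOf {ℓ} J (P ⊓ f.ker))
    (hPJ : P ≤ normalizer (J : Set X)) (hJ1 : J ≠ ⊥) : ¬ IsCyclic J := by
  intro hcyc
  apply hJ1
  have hPp := C.perfect hE
  have hPC := le_centralizer_of_cyclic hPp hcyc hPJ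
  obtain ⟨Q, hQ, hPQ⟩ := C.exists_hall hs {p | p.Prime ∧ p ∉ ({ℓ} : Set ℕ)}
  have hcompl := (isPiHallOf_compl_iff hJ).mpr hQ
  have hQP : Q ≤ P := hQ.1.trans inf_le_left
  have hJP : J ≤ P := hJ.1.trans inf_le_left
  set QP : Subgroup P := Q.subgroupOf P with hQPdef
  have hn : QP.Normal := by
    rw [hQPdef, normal_subgroupOf_iff_le_normalizer hQP]; exact hPQ
  let φ : P →* E := (f.comp P.subtype).codRestrict E (fun x => C.mem_map x.2)
  have hφ : ∀ x : P, ((φ x : E) : Y) = f x := fun _ => rfl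
  have hφs : Function.Surjective φ := by
    rintro ⟨y, hy⟩
    have : y ∈ P.map f := by rw [C.map]; exact hy
    obtain ⟨x, hx, rfl⟩ := this
    exact ⟨⟨x, hx⟩, Subtype.ext rfl⟩
  have hker : QP ≤ φ.ker := by
    intro x hx
    rw [MonoidHom.mem_ker]
    apply Subtype.ext
    rw [hφ]
    exact (mem_inf.mp (hQ.1 (mem_subgroupOf.mp hx))).2
  let π : P ⧸ QP →* E := QuotientGroup.lift QP φ hker
  have hπ : ∀ x : P, π (QuotientGroup.mk x) = φ x := fun x => rfl
  have hπs : Function.Surjective π := fun y => by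
    obtain ⟨x, hx⟩ := hφs y
    exact ⟨QuotientGroup.mk x, hx⟩
  -- elements of the kernel come from `J`
  have hkJ : ∀ γ ∈ π.ker, ∃ j : P, (j : X) ∈ J ∧ (QuotientGroup.mk j : P ⧸ QP) = γ := by
    intro γ hγ
    obtain ⟨x, rfl⟩ := QuotientGroup.mk_surjective γ
    have h1 : (x : X) ∈ P ⊓ f.ker := by
      refine ⟨x.2, ?_⟩
      have h2 : φ x = 1 := hγ
      have h3 := congrArg (Subtype.val) h2
      exact h3
    obtain ⟨q, hq, j, hj, hqj⟩ := hcompl.2.2.2 (x : X) h1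
    refine ⟨⟨j, hJP hj⟩, hj, ?_⟩
    rw [QuotientGroup.eq]
    -- j⁻¹ * x ∈ QP
    have h4 : (⟨j, hJP hj⟩ : P)⁻¹ * x ∈ QP := by
      rw [hQPdef, mem_subgroupOf]
      show j⁻¹ * (x : X) ∈ Q
      rw [hqj]
      have h5 := (mem_normalizer_iff.mp (hPQ (P.inv_mem (hJP hj))) q).mp hq
      rwa [inv_inv, mul_assoc] at h5
    exact h4
  have hcen : π.ker ≤ center (P ⧸ QP) := by
    intro γ hγ
    obtain ⟨j, hj, rfl⟩ := hkJ γ hγ
    rw [mem_center_iff]
    intro δ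
    obtain ⟨x, rfl⟩ := QuotientGroup.mk_surjective δ
    have h1 : x * j = j * x := by
      apply Subtype.ext
      exact ((mem_centralizer_iff.mp (hPC x.2)) _ hj).symm
    show (QuotientGroup.mk (x * j) : P ⧸ QP) = QuotientGroup.mk (j * x)
    rw [h1]
  have hperf : ⁅(⊤ : Subgroup (P ⧸ QP)), (⊤ : Subgroup (P ⧸ QP))⁆ = ⊤ := by
    have h1 : ⁅(⊤ : Subgroup P), (⊤ : Subgroup P)⁆ = ⊤ := by
      apply map_injective P.subtype_injective
      rw [map_commutator, ← MonoidHom.range_eq_map, range_subtype]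
      exact hPp
    have h2 := congrArg (Subgroup.map (QuotientGroup.mk' QP)) h1
    rw [map_commutator, ← MonoidHom.range_eq_map, MonoidHom.range_eq_top.mpr
      (QuotientGroup.mk'_surjective QP)] at h2
    exact h2
  have hJp : IsPGroup ℓ J := by
    have : Fact ℓ.Prime := ⟨hℓ⟩
    rw [IsPGroup.iff_card]
    refine ⟨(Nat.card J).primeFactorsList.length, Nat.eq_prime_pow_of_unique_prime_dvd Nat.card_pos.ne' ?_⟩
    intro p hp hd
    exact hJ.2.1 p hp hd
  have hpg : IsPGroup ℓ π.ker := by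
    rintro ⟨γ, hγ⟩
    obtain ⟨j, hj, rfl⟩ := hkJ γ hγ
    obtain ⟨k, hk⟩ := hJp ⟨j, hj⟩
    refine ⟨k, Subtype.ext ?_⟩
    have h1 : (j : P) ^ ℓ ^ k = 1 := by
      apply Subtype.ext
      have h2 := congrArg (Subtype.val) hk
      rw [SubmonoidClass.coe_pow] at h2 ⊢
      exact h2
    show (QuotientGroup.mk (j : P) : P ⧸ QP) ^ ℓ ^ k = 1
    rw [← QuotientGroup.mk_pow, h1]
    rfl
  have hbot := hm (P ⧸ QP) π hπs hcen hperf hpg
  rw [eq_bot_iff]
  intro j hj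
  have h1 : (QuotientGroup.mk (⟨j, hJP hj⟩ : P) : P ⧸ QP) ∈ π.ker := by
    rw [MonoidHom.mem_ker, hπ]
    apply Subtype.ext
    exact (mem_inf.mp (hJ.1 hj)).2
  rw [hbot, mem_bot, QuotientGroup.eq_one_iff] at h1
  have h2 : j ∈ Q := mem_subgroupOf.mp h1
  have h3 : j ∈ Q ⊓ J := ⟨h2, hj⟩
  rwa [hcompl.2.2.1] at h3

theorem commutator_le_self' {Γ : Type v} [Group Γ] (A : Subgroup Γ) : ⁅A, A⁆ ≤ A := by
  rw [commutator_le]
  intro a ha b hb
  rw [commutatorElement_def]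
  exact mul_mem (mul_mem (mul_mem ha hb) (inv_mem ha)) (inv_mem hb)

/-- one factor -/
theorem NoMult.aux {ℓ : ℕ} {K : Subgroup Y} (hK : NoMult ℓ K) {Γ : Type u} [Group Γ] [Finite Γ]
    (π : Γ →* Y) (hc : π.ker ≤ center Γ) (hp : IsPGroup ℓ π.ker) {K' : Subgroup Γ} (hmap : K'.map π = K)
    (hperf : ⁅K', K'⁆ = K') : K' ⊓ π.ker = ⊥ := by
  let φ : K' →* K := (π.comp K'.subtype).codRestrict K (fun x => by
    rw [← hmap]; exact mem_map_of_mem π x.2)
  have hφ : ∀ x : K', ((φ x : K) : Y) = π x := fun _ => rfl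
  have hφs : Function.Surjective φ := by
    rintro ⟨y, hy⟩
    rw [← hmap] at hy
    obtain ⟨x, hx, rfl⟩ := hy
    exact ⟨⟨x, hx⟩, Subtype.ext rfl⟩
  have hk : ∀ x : K', x ∈ φ.ker → (x : Γ) ∈ π.ker := by
    intro x hx
    have h2 : φ x = 1 := hx
    exact congrArg Subtype.val h2
  have hbot := hK K' φ hφs (by
    intro x hx
    rw [mem_center_iff]
    intro y
    apply Subtype.ext
    exact mem_center_iff.mp (hc (hk x hx)) y) (by
    apply map_injective K'.subtype_injective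
    rw [map_commutator, ← MonoidHom.range_eq_map, range_subtype]
    exact hperf) (by
    rintro ⟨x, hx⟩
    obtain ⟨k, hk'⟩ := hp ⟨x, hk x hx⟩
    refine ⟨k, Subtype.ext (Subtype.ext ?_)⟩
    have h2 := congrArg (Subtype.val) hk'
    rw [SubmonoidClass.coe_pow] at h2 ⊢
    rw [SubmonoidClass.coe_pow]
    exact h2)
  rw [eq_bot_iff]
  rintro x ⟨hx, hxk⟩
  have h1 : (⟨x, hx⟩ : K') ∈ φ.ker := by
    rw [MonoidHom.mem_ker]
    apply Subtype.ext
    exact hxk
  rw [hbot, mem_bot] at h1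
  rw [mem_bot]
  exact congrArg Subtype.val h1

theorem NoMult.sup {ℓ : ℕ} (hℓ : ℓ.Prime) {K L : Subgroup Y} (hKL : K ≤ centralizer (L : Set Y)) (hinf : K ⊓ L = ⊥)
    (hKp : ⁅K, K⁆ = K) (hLp : ⁅L, L⁆ = L) (hK : NoMult ℓ K) (hL : NoMult ℓ L) : NoMult ℓ (K ⊔ L : Subgroup Y) := by
  intro Γ _ _ π0 hs0 hc0 hperf hp0
  set π : Γ →* Y := (K ⊔ L).subtype.comp π0 with hπ
  have hker : π.ker = π0.ker := by
    ext x
    rw [MonoidHom.mem_ker, MonoidHom.mem_ker, hπ, MonoidHom.comp_apply]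
    constructor
    · intro h; exact Subtype.ext h
    · intro h; rw [h]; rfl
  have hrange : ∀ y ∈ K ⊔ L, ∃ x, π x = y := by
    intro y hy
    obtain ⟨x, hx⟩ := hs0 ⟨y, hy⟩
    exact ⟨x, by rw [hπ, MonoidHom.comp_apply, hx]; rfl⟩
  have hmemr : ∀ x, π x ∈ K ⊔ L := fun x => (π0 x).2
  rw [← hker]
  have hc : π.ker ≤ center Γ := hker ▸ hc0
  have hp : IsPGroup ℓ π.ker := hker ▸ hp0
  clear_value π
  set K1 : Subgroup Γ := K.comap π with hK1
  set L1 : Subgroup Γ := L.comap π with hL1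
  have hmapK1 : K1.map π = K := by
    apply le_antisymm
    · rintro _ ⟨x, hx, rfl⟩; exact hx
    · intro y hy
      obtain ⟨x, rfl⟩ := hrange y ((le_sup_left : K ≤ K ⊔ L) hy)
      exact ⟨x, hy, rfl⟩
  have hmapL1 : L1.map π = L := by
    apply le_antisymm
    · rintro _ ⟨x, hx, rfl⟩; exact hx
    · intro y hy
      obtain ⟨x, rfl⟩ := hrange y ((le_sup_right : L ≤ K ⊔ L) hy)
      exact ⟨x, hy, rfl⟩
  have hcomm : ⁅K1, L1⁆ ≤ π.ker := by
    rw [commutator_le]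
    intro x hx y hy
    rw [MonoidHom.mem_ker, map_commutatorElement, commutatorElement_eq_one_iff_mul_comm]
    exact (mem_centralizer_iff.mp (hKL hx) _ hy).symm
  have hcen : ∀ A : Subgroup Γ, ⁅π.ker, A⁆ = ⊥ := by
    intro A
    rw [eq_bot_iff, commutator_le]
    intro x hx y _
    rw [mem_bot, commutatorElement_eq_one_iff_mul_comm]
    exact (mem_center_iff.mp (hc hx) y).symm
  have hKK : ⁅⁅K1, K1⁆, L1⁆ = ⊥ := by
    apply commutator_commutator_eq_bot_of_rotate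
    · -- ⁅⁅K1, L1⁆, K1⁆ = ⊥
      rw [eq_bot_iff, ← hcen K1]
      exact commutator_mono hcomm le_rfl
    · rw [eq_bot_iff, ← hcen K1, commutator_comm L1 K1]
      exact commutator_mono hcomm le_rfl
  have hLL : ⁅⁅L1, L1⁆, K1⁆ = ⊥ := by
    apply commutator_commutator_eq_bot_of_rotate
    · rw [eq_bot_iff, ← hcen L1, commutator_comm L1 K1]
      exact commutator_mono hcomm le_rfl
    · rw [eq_bot_iff, ← hcen L1]
      exact commutator_mono hcomm le_rfl
  -- every perfect image: `A.map π = B` perfect gives `A = ⁅A,A⁆ ⊔ ker`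
  have hsup : ∀ (A : Subgroup Γ) (B : Subgroup Y), A.map π = B → ⁅B, B⁆ = B → A ≤ ⁅A, A⁆ ⊔ π.ker := by
    intro A B hAB hB
    intro x hx
    have h1 : π x ∈ (⁅A, A⁆).map π := by
      rw [map_commutator, hAB, hB, ← hAB]
      exact mem_map_of_mem π hx
    obtain ⟨y, hy, hyx⟩ := h1
    have h2 : x = y * (y⁻¹ * x) := by group
    rw [h2]
    refine mul_mem_sup hy ?_
    rw [MonoidHom.mem_ker, map_mul, map_inv, hyx, inv_mul_cancel]
  have hpf : ∀ (A : Subgroup Γ) (B : Subgroup Y), A.map π = B → ⁅B, B⁆ = B → ⁅⁅A, A⁆, ⁅A, A⁆⁆ = ⁅A, A⁆ := by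
    intro A B hAB hB
    apply le_antisymm (commutator_mono (commutator_le_self' A) (commutator_le_self' A))
    rw [commutator_le]
    intro x hx y hy
    obtain ⟨a, ha, z, hz, rfl⟩ := mem_sup_of_normal_right.mp (hsup A B hAB hB hx)
    obtain ⟨b, hb, w, hw, rfl⟩ := mem_sup_of_normal_right.mp (hsup A B hAB hB hy)
    have h1 : ⁅a * z, b * w⁆ = ⁅a, b⁆ := by
      have hz' := mem_center_iff.mp (hc hz)
      have hw' := mem_center_iff.mp (hc hw)
      simp only [commutatorElement_def, mul_inv_rev]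
      calc a * z * (b * w) * (z⁻¹ * a⁻¹) * (w⁻¹ * b⁻¹)
          = a * (z * (b * w) * z⁻¹) * a⁻¹ * (w⁻¹ * b⁻¹) := by group
        _ = a * (b * w) * a⁻¹ * (w⁻¹ * b⁻¹) := by rw [← hz' (b * w)]; group
        _ = a * b * (w * a⁻¹ * w⁻¹) * b⁻¹ := by group
        _ = a * b * a⁻¹ * b⁻¹ := by rw [← hw' a⁻¹]; group
    rw [h1]
    exact commutator_mem_commutator ha hb
  have hmapK : (⁅K1, K1⁆).map π = K := by rw [map_commutator, hmapK1, hKp]
  have hmapL : (⁅L1, L1⁆).map π = L := by rw [map_commutator, hmapL1, hLp]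
  have hKb := hK.aux π hc hp hmapK (hpf K1 K hmapK1 hKp)
  have hLb := hL.aux π hc hp hmapL (hpf L1 L hmapL1 hLp)
  -- `Γ` is the product
  have htop : (⁅K1, K1⁆ ⊔ ⁅L1, L1⁆) ⊔ π.ker = ⊤ := by
    rw [eq_top_iff]
    intro x _
    have h1 : π x ∈ (⁅K1, K1⁆ ⊔ ⁅L1, L1⁆).map π := by
      rw [Subgroup.map_sup, hmapK, hmapL]
      exact hmemr x
    obtain ⟨y, hy, hyx⟩ := h1
    have h2 : x = y * (y⁻¹ * x) := by group
    rw [h2]
    refine mul_mem_sup hy ?_
    rw [MonoidHom.mem_ker, map_mul, map_inv, hyx, inv_mul_cancel]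
  have htop2 : ⁅K1, K1⁆ ⊔ ⁅L1, L1⁆ = ⊤ := by
    rw [eq_top_iff, ← hperf, commutator_le]
    intro x _ y _
    obtain ⟨a, ha, z, hz, rfl⟩ := mem_sup_of_normal_right.mp (htop ▸ mem_top x)
    obtain ⟨b, hb, w, hw, rfl⟩ := mem_sup_of_normal_right.mp (htop ▸ mem_top y)
    have h1 : ⁅a * z, b * w⁆ = ⁅a, b⁆ := by
      have hz' := mem_center_iff.mp (hc hz)
      have hw' := mem_center_iff.mp (hc hw)
      simp only [commutatorElement_def, mul_inv_rev]
      calc a * z * (b * w) * (z⁻¹ * a⁻¹) * (w⁻¹ * b⁻¹)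
          = a * (z * (b * w) * z⁻¹) * a⁻¹ * (w⁻¹ * b⁻¹) := by group
        _ = a * (b * w) * a⁻¹ * (w⁻¹ * b⁻¹) := by rw [← hz' (b * w)]; group
        _ = a * b * (w * a⁻¹ * w⁻¹) * b⁻¹ := by group
        _ = a * b * a⁻¹ * b⁻¹ := by rw [← hw' a⁻¹]; group
    rw [h1, commutatorElement_def]
    exact mul_mem (mul_mem (mul_mem ha hb) (inv_mem ha)) (inv_mem hb)
  have hcentr : ⁅L1, L1⁆ ≤ centralizer ((⁅K1, K1⁆ : Subgroup Γ) : Set Γ) := by
    rw [← commutator_eq_bot_iff_le_centralizer, eq_bot_iff, commutator_comm, ← hKK]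
    exact commutator_mono le_rfl (commutator_le_self' L1)
  rw [eq_bot_iff]
  intro z hz
  obtain ⟨k, hk, l, hl, rfl⟩ : ∃ k ∈ ⁅K1, K1⁆, ∃ l ∈ ⁅L1, L1⁆, k * l = z := by
    have hnor : (⁅K1, K1⁆ : Subgroup Γ).Normal := by
      rw [← normalizer_eq_top_iff, eq_top_iff, ← htop2]
      exact sup_le le_normalizer (hcentr.trans (centralizer_le_normalizer _))
    exact mem_sup_of_normal_left.mp (htop2 ▸ mem_top z)
  have h1 : π k * π l = 1 := by rw [← map_mul]; exact hz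
  have h2 : π k ∈ K ⊓ L := by
    refine ⟨?_, ?_⟩
    · rw [← hmapK]; exact mem_map_of_mem π hk
    · rw [eq_inv_of_mul_eq_one_left h1]
      apply L.inv_mem
      rw [← hmapL]; exact mem_map_of_mem π hl
  rw [hinf, mem_bot] at h2
  have h3 : π l = 1 := by rw [h2, one_mul] at h1; exact h1
  have h4 : k ∈ ⁅K1, K1⁆ ⊓ π.ker := ⟨hk, h2⟩
  have h5 : l ∈ ⁅L1, L1⁆ ⊓ π.ker := ⟨hl, h3⟩
  rw [hKb, mem_bot] at h4
  rw [hLb, mem_bot] at h5
  rw [h4, h5, mem_bot, one_mul]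

end Cfsg.Agent.H389.RSq
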